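import Cfsg.Agent.StdRank2.UClose.Aut
import Cfsg.Agent.StdSpFour.CaseBSplit
import Cfsg.Agent.SylowL.SylowPSL
import Cfsg.Agent.StdEven.Red
import Cfsg.Agent.StdEven.Syl

/-!
# S1778, type `U₅(q)`, field case: from the Sylow 2-subgroup `UT 5 R` of `L` to the conclusion (by S1769)
-/

set_option autoImplicit false
set_option linter.unusedSectionVars false

namespace Cfsg.Agent.StdRank2.UFiveEnd

open Subgroup Cfsg.Agent.SylowL.UT Cfsg.Agent.StdRank2.UClose
open Cfsg.Agent.StdSpFour.CaseBSplit (LinSylow)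
open Cfsg.Agent.StdEven.Syl

universe u

section rank

variable {R : Type*} [Field R] [CharP R 2]

/-- the rank of a group containing `UT 5 R` -/
theorem not_rank [Finite R] (hR : 4 ≤ Nat.card R) {L : Type*} [Group L] (i : UT 5 R →* L)
    (hi : Function.Injective i) : ¬ Cfsg.PRankLE 2 2 L := by
  intro h
  have h1 := h ((e1 (F := R)).range.map i) ⟨⟨?_⟩⟩ ?_
  · rw [Nat.card_congr (((e1 (F := R)).range.equivMapOfInjective i hi).toEquiv.symm), card_e1] at h1
    have h2 : 4 ^ 6 ≤ Nat.card R ^ 6 := Nat.pow_le_pow_left hR 6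
    omega
  · rintro ⟨_, x, hx, rfl⟩ ⟨_, y, hy, rfl⟩
    apply Subtype.ext
    show i x * i y = i y * i x
    rw [← map_mul, e1_comm hx hy, map_mul]
  · rintro _ ⟨x, hx, rfl⟩
    rw [pow_two, ← map_mul, e1_sq hx, map_one]

end rank

/-- `L` is of Lie type -/
theorem isLie {R : Type} [Field R] [Finite R] {r : ℕ} (hr : 2 ≤ r) (hR : Nat.card R = 2 ^ r) {L : Type u}
    [Group L] [Finite L] (h1769 : LinSylow.{u, 0} L) (S : Sylow 2 L) (e : ↥(S : Subgroup L) ≃* UT 5 R) :
    Cfsg.IsLieTypeChar 2 L := by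
  let _ : Fintype R := Fintype.ofFinite R
  have hR' : Fintype.card R = 2 ^ r := by rw [← Nat.card_eq_fintype_card, hR]
  have hch : CharP R 2 := by
    obtain ⟨p, hp⟩ := CharP.exists R
    have hp' : p.Prime := (CharP.char_is_prime_or_zero R p).resolve_right
      (fun h0 => by subst h0; exact CharP.char_ne_zero_of_finite R 0 rfl)
    obtain ⟨k, hk1, hk2⟩ := FiniteField.card R p
    have : p = 2 := by
      have h1 : p ∣ 2 ^ r := by
        rw [← hR', hk2]
        exact dvd_pow_self p k.pos.ne'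
      exact (Nat.prime_dvd_prime_iff_eq hp' Nat.prime_two).mp (hp'.dvd_of_dvd_pow h1)
    exact this ▸ hp
  have P : Sylow 2 (Matrix.ProjectiveSpecialLinearGroup (Fin 5) R) := default
  obtain ⟨e'⟩ := SylowL.SylowPSL.sylow_equiv 2 P
  have hn : ¬ Cfsg.PRankLE 2 2 L := by
    refine not_rank (R := R) ?_ ((S : Subgroup L).subtype.comp e.symm.toMonoidHom)
      ((Subtype.val_injective).comp e.symm.injective)
    rw [hR]
    calc 4 = 2 ^ 2 := rfl
      _ ≤ 2 ^ r := Nat.pow_le_pow_right (by norm_num) hr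
  exact Or.inl ⟨R, inferInstance, inferInstance, inferInstance, 5, by norm_num, by norm_num,
    h1769 hn R r hr hR' 5 (by norm_num) S P ⟨e.trans e'.symm⟩⟩

variable {G : Type u} [Group G] [Finite G]

/-- the Sylow subgroup of a subgroup -/
theorem exists_sylow_of_isSyl {L S : Subgroup G} (h : IsSyl S L) :
    ∃ P : Sylow 2 ↥L, Nonempty (↥(P : Subgroup ↥L) ≃* ↥S) :=
  ⟨h.toSylow, ⟨(MulEquiv.subgroupCongr h.coe_toSylow).trans (Subgroup.subgroupOfEquivOfLe h.le)⟩⟩

/-- **The conclusion in the field case.** -/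
theorem concl_of_isSyl {L S : Subgroup G} (h : IsSyl S L) {t : G} (ht : t ∉ L) {R : Type} [Field R] [Finite R] {r : ℕ}
    (hr : 2 ≤ r) (hR : Nat.card R = 2 ^ r) (h1769 : LinSylow.{u, 0} ↥L) (e : ↥S ≃* UT 5 R) :
    StdEven.Red.Concl L t := by
  obtain ⟨S, ⟨f⟩⟩ := exists_sylow_of_isSyl h
  exact ⟨Or.inl (isLie hr hR h1769 S (f.trans e)), ht⟩

/-- the Sylow subgroup of a normal subgroup -/
theorem exists_sylow_inf {L : Subgroup G} (hL : L.Normal) (Q : Sylow 2 G) : IsSyl ((Q : Subgroup G) ⊓ L) L :=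
  (isSyl_top_of_sylow Q).inf_normal le_top (by rw [normalizer_eq_top_iff.2 hL])

/-- The conclusion in the field case, with a Sylow subgroup of `G`. -/
theorem concl_of_field {L : Subgroup G} (hL : L.Normal) {t : G} (ht : t ∉ L) {R : Type} [Field R] [Finite R] {r : ℕ}
    (hr : 2 ≤ r) (hR : Nat.card R = 2 ^ r) (h1769 : LinSylow.{u, 0} ↥L) (Q : Sylow 2 G)
    (e : ↥((Q : Subgroup G) ⊓ L) ≃* UT 5 R) : StdEven.Red.Concl L t := by
  exact concl_of_isSyl (exists_sylow_inf hL Q) ht hr hR h1769 e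

end Cfsg.Agent.StdRank2.UFiveEnd
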