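import Cfsg.Agent.StdRank2.UFiveEnd.Chain
import Cfsg.Agent.StdRank2.UFiveEnd.Concl
import Cfsg.Agent.StdRank2.SC.FiveP

/-!
# S1778, type `U₅(q)`, `q ≥ 4`: the frame of the final assembly

`core_of`: `Core TypeU5` from the two cases `FieldStmt`, `SplitStmt` and S1769.
-/

set_option autoImplicit false
set_option linter.unusedSectionVars false

namespace Cfsg.Agent.StdRank2.UFiveEnd

open Subgroup Cfsg.Agent.StdRank2.UFour
open Cfsg.Agent.StdEven.Red
open Cfsg.Agent.StdSpFour.CaseBSplit (LinSylow)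

universe u

/-- the field case -/
def FieldStmt : Prop := ∀ (F : Type) [Field F] [Finite F] [CharP F 2] (B : Bar F) (G : Type u) [Group G] [Finite G]
  (L A : Subgroup G) (t : G) (P : Top B L A t) (Gr : UFive.Grown P.E) (ep : SC.Eps (SC.Five.ag Gr)),
  B.s ep.e = ep.e + 1 → LinSylow.{u, 0} ↥L → Concl L t

/-- the split case -/
def SplitStmt : Prop := ∀ (F : Type) [Field F] [Finite F] [CharP F 2] (B : Bar F) (G : Type u) [Group G] [Finite G]
  (L A : Subgroup G) (t : G) (P : Top B L A t) (Gr : UFive.Grown P.E) (ep : SC.Eps (SC.Five.ag Gr)),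
  B.s ep.e = ep.e → False

/-- **The frame.** -/
theorem core_of (hF : FieldStmt.{u}) (hS : SplitStmt.{u})
    (h1769 : ∀ (L : Type u) [Group L] [Finite L] [IsSimpleGroup L], LinSylow.{u, 0} L) :
    Core.{u} (fun Q _ => TypeU5 Q) := by
  intro H _ _ L A t hC hZ hQ
  obtain ⟨F, i1, i2, a, ha, hcard, ⟨e⟩⟩ := hQ
  obtain ⟨hch, B, ⟨P⟩⟩ := exists_top hC hZ ha hcard e
  obtain ⟨Gr⟩ := P.exists_grown
  obtain ⟨ep⟩ := SC.exists_Eps (SC.Five.ag Gr)
  rcases ep.hs with h | h
  · exact (hS F B H L A t P Gr ep h).elim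
  · have := hC.simple
    exact hF F B H L A t P Gr ep h (h1769 ↥L)

end Cfsg.Agent.StdRank2.UFiveEnd
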