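import Cfsg.Agent.StdRank2.UFiveEnd.Chain
import Cfsg.Agent.StdRank2.SplitLift
import Cfsg.Agent.StdRank2.SC.FiveSplitM

/-!
# S1778, type `U₅(q)`, split case: the subgroup `M` of `G`
-/

set_option autoImplicit false
set_option linter.unusedSectionVars false

namespace Cfsg.Agent.StdRank2.UFiveEnd.Top

open Subgroup Cfsg.Agent.StdRank2.UFour Cfsg.Agent.StdEven.CoreQuot
open Cfsg.Agent.SwapEnd Cfsg.Agent.StdRank2.SplitLift

universe u

variable {F : Type*} [Field F] [Finite F] [CharP F 2] {B : Bar F} {G : Type u} [Group G] [Finite G]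
  {L A : Subgroup G} {t : G} (P : Top B L A t) {Gr : UFive.Grown P.E} (D : SC.Five.SplitG Gr)

/-- the factor in `X` -/
theorem fac (i : Bool) : Fac P.hyp (D.LL i) where
  perf := D.LL_perf' i
  two := D.LL_two i
  comm x hx y hy := D.LL_swap i x hx y hy
  diag x hx := by
    have h1 := SC.Five.SplitG.range_dg_env5 (Cfsg.Agent.StdRank2.B2Conn.imS P.hyp P.S) P.hypE P.h0 P.h1 D i
    have h2 : x * (P.E.t * x * P.E.t) ∈ (D.dg i).range := D.mem_range_dg.2 ⟨x, hx, rfl⟩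
    exact h1.le h2
  onto a ha := by
    have h1 := SC.Five.SplitG.range_dg_env5 (Cfsg.Agent.StdRank2.B2Conn.imS P.hyp P.S) P.hypE P.h0 P.h1 D i
    have h2 : a ∈ (D.dg i).range := h1.ge ha
    obtain ⟨x, hx, e⟩ := D.mem_range_dg.1 h2
    exact ⟨x, hx, e.symm⟩

/-- **The subgroup `M`.** -/
theorem exists_M : ∃ (M : Subgroup G) (S : Swap M t), Swap.Dia S A ∧ (∀ m ∈ M, ∀ o ∈ core A t, o * m = m * o) ∧
      (∀ m ∈ M, m ∈ NO A t) ∧ im A t M = D.LL false ∧
      (∀ x : G, (∃ k : ℕ, x ^ 2 ^ k = 1) → (∀ o ∈ core A t, o * x = x * o) →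
        (∀ hx : x ∈ NO A t, pr A t ⟨x, hx⟩ ∈ D.LL false) → x ∈ M) :=
  exists_lift P.hyp (P.fac D false) P.sch P.C.cyc

end Cfsg.Agent.StdRank2.UFiveEnd.Top
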