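import Cfsg.Agent.StdRank2.UFiveEnd.SplitEnd
import Cfsg.Agent.StdRank2.UFiveEnd.FacX
import Cfsg.Agent.StdRank2.UClose.Field
import Cfsg.Agent.StdRank2.SC.FiveOut
import Cfsg.Agent.StdRank2.OutSplit.UFin
import Cfsg.Agent.WreathFusion.Kill

/-!
# S1778, type `U₅(q)`, `q ≥ 4`: everything from the Sylow 2-subgroup of `L` in the split case

`SplitSyl`: in the split case a Sylow 2-subgroup of `L` has at most `|U|²` elements.  `core_of_splitSyl`.
-/

set_option autoImplicit false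
set_option linter.unusedSectionVars false

namespace Cfsg.Agent.StdRank2.UFiveEnd

open Subgroup Cfsg.Agent.StdRank2.UFour Cfsg.Agent.StdEven.CoreQuot
open Cfsg.Agent.StdEven.Syl Cfsg.Agent.WreathFusion Cfsg.Agent.SwapEnd
open Cfsg.Agent.StdRank2.OddLift Cfsg.Agent.StdRank2.B2Lift Cfsg.Agent.StdRank2.B2Std
open Cfsg.Agent.StdRank2.OutB2G
open Cfsg.Agent.StdEven.Red
open Cfsg.Agent.StdSpFour.CaseBSplit (LinSylow)

universe u

namespace Top

variable {F : Type*} [Field F] [Finite F] [CharP F 2] {B : Bar F} {G : Type u} [Group G] [Finite G]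
  {L A : Subgroup G} {t : G} (P : Top B L A t) {Gr : UFive.Grown P.E} (D : SC.Five.SplitG Gr)

include D in
/-- `|S₀| = |U|²` -/
theorem card_S0 : Nat.card Gr.toQGrown.S0 = Nat.card (UG P.S) * Nat.card (UG P.S) := by
  have hU : Nat.card (SeedPre.UU P.E.toWEnv) = Nat.card (UG P.S) := by
    have h1 : SeedPre.UU P.E.toWEnv = UG (B2Conn.imS P.hyp P.S) := UClose.UU_eq P.hyp P.S P.hypE P.h0 P.h1
    have hUT : UG P.S ≤ P.T := by rw [← P.TA]; exact inf_le_left
    have h2 : IsPGroup 2 (UG P.S) := P.isT.syl.two.to_le hUT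
    rw [h1, ← TX.im_UG P.hyp P.S, P.hyp.card_im h2 (fun x hx => P.hyp.T_le (hUT hx))]
  have e : Nat.card (D.SS false × D.SS true) = Nat.card Gr.toQGrown.S0 := by
    refine Nat.card_congr (Equiv.ofBijective (fun x => (⟨(x.1 : XQ A t) * x.2, mul_mem (D.SS_le _ x.1.2)
      (D.SS_le _ x.2.2)⟩ : Gr.toQGrown.S0)) ⟨?_, ?_⟩)
    · rintro ⟨a, b⟩ ⟨a', b'⟩ h
      have h1 : (a : XQ A t) * b = a' * b' := congrArg Subtype.val h
      have h2 : (a' : XQ A t)⁻¹ * a = b' * (b : XQ A t)⁻¹ := by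
        calc (a' : XQ A t)⁻¹ * a = (a' : XQ A t)⁻¹ * (a * b) * (b : XQ A t)⁻¹ := by group
          _ = _ := by rw [h1]; group
      have h3 : (a' : XQ A t)⁻¹ * a = 1 := D.SS_inf false (mul_mem (inv_mem a'.2) a.2)
        (by rw [h2]; exact mul_mem b'.2 (inv_mem b.2))
      have h4 : (a : XQ A t) = a' := (inv_mul_eq_one.1 h3).symm
      have h5 : (b : XQ A t) = b' := by rw [h4] at h1; exact mul_left_cancel h1
      exact Prod.ext (Subtype.ext h4) (Subtype.ext h5)
    · rintro ⟨g, hg⟩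
      rw [← D.SS_sup] at hg
      have key : ∀ g ∈ D.SS false ⊔ D.SS true, ∃ a ∈ D.SS false, ∃ b ∈ D.SS true, g = a * b := by
        intro g hg
        rw [sup_eq_closure] at hg
        induction hg using closure_induction with
        | mem x hx =>
          rcases hx with hx | hx
          · exact ⟨x, hx, 1, one_mem _, (mul_one x).symm⟩
          · exact ⟨1, one_mem _, x, hx, (one_mul x).symm⟩
        | one => exact ⟨1, one_mem _, 1, one_mem _, (mul_one 1).symm⟩
        | mul x y _ _ hx hy =>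
          obtain ⟨a, ha, b, hb, rfl⟩ := hx
          obtain ⟨c, hc, d, hd, rfl⟩ := hy
          refine ⟨a * c, mul_mem ha hc, b * d, mul_mem hb hd, ?_⟩
          have h1 : c * b = b * c := D.SS_comm hc hb
          calc a * b * (c * d) = a * (b * c) * d := by group
            _ = a * c * (b * d) := by rw [← h1]; group
        | inv x _ hx =>
          obtain ⟨a, ha, b, hb, rfl⟩ := hx
          refine ⟨a⁻¹, inv_mem ha, b⁻¹, inv_mem hb, ?_⟩
          have h1 : a * b = b * a := D.SS_comm ha hb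
          rw [h1, mul_inv_rev]
      obtain ⟨a, ha, b, hb, e⟩ := key g hg
      exact ⟨(⟨a, ha⟩, ⟨b, hb⟩), Subtype.ext e.symm⟩
  rw [← e, Nat.card_prod, D.card_SS, D.card_SS, hU]

include D in
/-- **The split case is impossible** if the Sylow 2-subgroups of `L` have at most `|U|²` elements. -/
theorem false_of_isSyl {N : Subgroup G} (hN : IsSyl N L)
    (hc : Nat.card N ≤ Nat.card (UG P.S) * Nat.card (UG P.S)) : False := by
  obtain ⟨Y, hY, hYN, hd⟩ := P.exists_pdata D hN (by rw [P.card_S0 D]; exact hc)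
  exact false_of_im P.C P.hyp hY hYN hd

end Top

/-- the Sylow 2-subgroups of `L` in the split case -/
def SplitSyl : Prop := ∀ (F : Type) [Field F] [Finite F] [CharP F 2] (B : Bar F) (G : Type u) [Group G] [Finite G]
  (L A : Subgroup G) (t : G) (P : Top B L A t) (M : Subgroup G) (S : Swap M t), Swap.Dia S A →
  (∀ m ∈ M, ∀ o ∈ core A t, o * m = m * o) → (∀ m ∈ M, m ∈ NO A t) →
  ∃ N, IsSyl N L ∧ Nat.card N ≤ Nat.card (UG P.S) * Nat.card (UG P.S)

/-- the input, `helper777`'s theorem -/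
theorem splitSyl : SplitSyl.{u} := by
  intro F _ _ _ B G _ _ L A t P M Sw Di _ _
  have hD := UStart.udat1 B
  obtain ⟨Y, hY, hc⟩ := OutSplit.UEnd.exists_isSyl_card P.C Sw Di P.S
    (OutB2Data.tyU1 B.s B.invol (UStart.s_ne_one B) (by have := P.card; omega)) hD (UStart.card_T1 B)
    (OutSplit.UEnd.four_le hD P.card)
  refine ⟨Y, hY, hc.trans (le_of_eq ?_)⟩
  rw [OutSplit.UEnd.card_UG P.S, pow_two]

/-- **`Core TypeU5`** from the Sylow 2-subgroup of `L` in the split case and S1769. -/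
theorem core_of_splitSyl (hS : SplitSyl.{u})
    (h1769 : ∀ (L : Type u) [Group L] [Finite L] [IsSimpleGroup L], LinSylow.{u, 0} L) :
    Core.{u} (fun Q _ => TypeU5 Q) := by
  intro H _ _ L A t hC hZ hQ
  obtain ⟨F, i1, i2, a, ha, hcard, ⟨e⟩⟩ := hQ
  obtain ⟨hch, B, ⟨P⟩⟩ := exists_top hC hZ ha hcard e
  obtain ⟨Gr⟩ := P.exists_grown
  rcases SC.Five.dich Gr with ⟨⟨D⟩⟩ | ⟨R, hR, hRf, hcardR, hiso, -⟩
  · obtain ⟨M, S, hD, h1, h2, -, -⟩ := P.exists_M D
    obtain ⟨N, hN, hc⟩ := hS F B H L A t P M S hD h1 h2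
    exact (P.false_of_isSyl D hN hc).elim
  · have := hC.simple
    exact UClose.concl_of_iso P Gr hcardR hiso (h1769 ↥L)

/-- **`Core TypeU5`** from S1769. -/
theorem core_U5 (h1769 : ∀ (L : Type u) [Group L] [Finite L] [IsSimpleGroup L], LinSylow.{u, 0} L) :
    Core.{u} (fun Q _ => TypeU5 Q) :=
  core_of_splitSyl splitSyl h1769

end Cfsg.Agent.StdRank2.UFiveEnd
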