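import Cfsg.Agent.StdRank2.UStart.Conn
import Cfsg.Agent.StdRank2.OutB2Outer
import Cfsg.Agent.StdRank2.B2Seed5
import Cfsg.Agent.StdRank2.B2Mover
import Cfsg.Agent.StdRank2.UFive.GrowAR
import Cfsg.Agent.StdRank2.UFive.QMake
import Cfsg.Agent.StdRank2.UFour.GrowSq
import Cfsg.Agent.StdRank2.SchQuot
import Cfsg.Agent.StdEven.Red

/-!
# S1778, type `U₅(q)`, `q ≥ 4`: the situation in `G` and in `X = N_G(O)/O`

`Top B L A t`: frame of `A`, Sylow 2-subgroup `T` of `C(t)` in adapted coordinates, the bridge `CoreQuot.Hyp`, the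
grown groups.  `exists_top`: from `Conf L A t` and `A/Z(A) ≅ U₅(q)`.
-/

set_option autoImplicit false
set_option linter.unusedSectionVars false

namespace Cfsg.Agent.StdRank2.UFiveEnd

open Subgroup
open Cfsg.Agent.TitsThree.B2Pkg Cfsg.Agent.TitsThree.RankTwoIdentB2
  Cfsg.Agent.TitsThree.CoreB2 Cfsg.Agent.TitsThree.RankTwoIdx Cfsg.Agent.TitsThree.RankTwoRGD
  Cfsg.Agent.TitsThree.StdData
open Cfsg.Agent.StdRank2.OddLift Cfsg.Agent.StdRank2.B2Lift Cfsg.Agent.StdRank2.B2Std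
  Cfsg.Agent.StdRank2.B2Torus Cfsg.Agent.StdRank2.B2Act Cfsg.Agent.StdRank2.B2Act.Std
  Cfsg.Agent.StdRank2.B2Par Cfsg.Agent.StdRank2.B2Par.Std Cfsg.Agent.StdRank2.B2Self
  Cfsg.Agent.StdRank2.B2Amb Cfsg.Agent.StdRank2.B2Conn Cfsg.Agent.StdRank2.UEnvW
open Cfsg Cfsg.Agent.SignalizersComponents Cfsg.Agent.StdEven.Syl Cfsg.Agent.StdEven.Loc
open Cfsg.Agent.StdEven.Perf Cfsg.Agent.StdL2.Setup Cfsg.Agent.Schreier.Basic
open Cfsg.Agent.StdEven Cfsg.Agent.StdRank2.UFour Cfsg.Agent.StdEven.CoreQuot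
open Cfsg.Agent.StdRank2.OutB2Par Cfsg.Agent.StdRank2.OutB2G Cfsg.Agent.StdRank2.OutB2Aut
  Cfsg.Agent.StdRank2.OutB2Tw Cfsg.Agent.StdRank2.OutB2Data Cfsg.Agent.StdRank2.OutB2Inv
  Cfsg.Agent.StdRank2.OutB2Outer Cfsg.Agent.StdRank2.UStart
open scoped commutatorElement

universe u

/-- fields with `2 ^ n` elements have characteristic 2 -/
theorem charP_two {F : Type*} [Field F] [Fintype F] {n : ℕ} (hF : Fintype.card F = 2 ^ n) :
    CharP F 2 := by
  obtain ⟨p, hp⟩ := CharP.exists F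
  have hp' : p.Prime := (CharP.char_is_prime_or_zero F p).resolve_right
    (fun h0 => by subst h0; exact CharP.char_ne_zero_of_finite F 0 rfl)
  obtain ⟨k, hk1, hk2⟩ := FiniteField.card F p
  have : p = 2 := by
    have h1 : p ∣ 2 ^ n := by
      rw [← hF, hk2]
      exact dvd_pow_self p k.pos.ne'
    exact (Nat.prime_dvd_prime_iff_eq hp' Nat.prime_two).mp (hp'.dvd_of_dvd_pow h1)
  exact this ▸ hp

/-- The situation in `G`, type `U₅(q)`. -/
structure Top {F : Type*} [Field F] [Finite F] [CharP F 2] (B : Bar F) {G : Type u} [Group G] [Finite G]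
    (L A : Subgroup G) (t : G) where
  C : Conf L A t
  hZ : Odd (Nat.card (center ↥A))
  card : 16 ≤ Nat.card F
  sch : Sch ↥A
  T : Subgroup G
  S : B2Std.Std (stdU1 F B.s B.invol) ↥A
  isT : IsT A t T
  TA : T ⊓ A = UG S
  had : Adapted (nU1 B.s B.invol) S T
  hyp : CoreQuot.Hyp A t T
  schX : Sch ↥(im A t A)
  c₀ : F
  hc : c₀ * B.s c₀ = 1
  hc1 : c₀ * c₀ * c₀ ≠ 1
  lam : B.K
  h0 : lam ≠ 0
  h1 : lam ≠ 1

section A

variable {F : Type*} [Field F] [Finite F] [CharP F 2] {B : Bar F} {G : Type u} [Group G] [Finite G]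
  {L A : Subgroup G} {t : G}

/-- from a frame -/
theorem exists_top_of_std (C : Conf L A t) (hZ : Odd (Nat.card (center ↥A))) (card : 16 ≤ Nat.card F)
    (hS : Sch (↥A ⧸ center ↥A)) (S : B2Std.Std (stdU1 F B.s B.invol) ↥A) {c₀ : F} (hc : c₀ * B.s c₀ = 1)
    (hc1 : c₀ * c₀ * c₀ ≠ 1) {lam : B.K} (h0 : lam ≠ 0) (h1 : lam ≠ 1) : Nonempty (Top B L A t) := by
  have hSA : Sch ↥A := SchQuot.sch_of_center C.std.1.1.commutator_eq_top hS
  have hs1 : B.s ≠ 1 := s_ne_one B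
  have hTy : Ty.{u} (nU1 B.s B.invol) := tyU1 B.s B.invol hs1 (by omega)
  obtain ⟨T, S', isT, TA, had⟩ := exists_adapted' C hZ hTy (card_T1 B) S
  have hO : StepFour.Outer A t T := outer_U5 hs1 hTy.gd hZ had t
  have hF := card_Fx (udat1 B)
  have hq : 2 < Nat.card (Fx (stdU1 F B.s B.invol)) := by
    by_contra h
    have h3 : Nat.card (Fx (stdU1 F B.s B.invol)) ≤ 2 := by omega
    nlinarith
  have hyp := exists_hyp (udat1 B) C hZ (sit_of_adapted isT TA had) hq hSA hO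
  exact ⟨⟨C, hZ, card, hSA, T, S', isT, TA, had, hyp, B2Mover.sch_im hyp (MulEquiv.refl _) hS, c₀, hc, hc1, lam,
    h0, h1⟩⟩

/-- **The situation of type `U₅(q)`.** -/
theorem exists_top {F : Type*} [Field F] [Fintype F] (C : Conf L A t) (hZ : Odd (Nat.card (center ↥A))) {a : ℕ}
    (ha : 2 ≤ a) (hF : Fintype.card F = 4 ^ a) (e : ↥A ⧸ center ↥A ≃* Cfsg.PSU 5 F (2 ^ a)) :
    ∃ (_ : CharP F 2) (B : Bar F), Nonempty (Top B L A t) := by
  have hF2 : Fintype.card F = (2 ^ a) ^ 2 := by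
    rw [hF, ← pow_mul, mul_comm, pow_mul]
    norm_num
  have hch : CharP F 2 := charP_two (n := a * 2) (by rw [hF2, ← pow_mul])
  have h4 : 4 ≤ 2 ^ a := by
    calc 4 = 2 ^ 2 := by norm_num
      _ ≤ 2 ^ a := Nat.pow_le_pow_right (by norm_num) ha
  obtain ⟨S⟩ := exists_U5 hF2 C.std.1.1.commutator_eq_top hZ e
  obtain ⟨c₀, hc, hc1⟩ := exists_c₀ hF2 (by omega)
  obtain ⟨lam, h0, h1⟩ := exists_lam hF2 (by omega)
  refine ⟨hch, bar hF2, exists_top_of_std C hZ ?_ ?_ S hc hc1 h0 h1⟩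
  · rw [Nat.card_eq_fintype_card, hF2]
    nlinarith
  · exact Sch.of_equiv e.symm (Schreier.PSU.sch hF2 (by norm_num) (by omega))

end A

namespace Top

variable {F : Type*} [Field F] [Finite F] [CharP F 2] {B : Bar F} {G : Type u} [Group G] [Finite G]
  {L A : Subgroup G} {t : G} (P : Top B L A t)

theorem sit : Sit P.S t P.T := sit_of_adapted P.isT P.TA P.had

/-- The environment in `X`. -/
noncomputable def E : UFive.Env B (XQ A t) := env5 P.hyp P.S P.hc P.hc1 P.h0 P.h1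

theorem E_t : P.E.t = P.hyp.tX := rfl

theorem hs1 : B.s ≠ 1 := s_ne_one B

theorem outer : StepFour.Outer A t P.T :=
  outer_U5 (s_ne_one B) (tyU1.{u} B.s B.invol (s_ne_one B) (by have := P.card; omega)).gd P.hZ P.had t

include P in
theorem hq : 2 < Nat.card (Fx (stdU1 F B.s B.invol)) := by
  by_contra h
  have h3 : Nat.card (Fx (stdU1 F B.s B.invol)) ≤ 2 := by omega
  have hF := card_Fx (udat1 B)
  have := P.card
  nlinarith

theorem hypE : UEnvW.Hyp (imS P.hyp P.S) B P.hyp.tX := hyp5 P.hyp P.S P.hc P.hc1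

/-- **The mover.** -/
theorem exists_mover : ∃ (n : XQ A t) (c : B.K), c ≠ 0 ∧
      n ∈ normalizer (SeedOdd.TZ P.E.toWEnv : Set (XQ A t)) ∧
      n * P.E.t * n⁻¹ = P.E.xz c * P.E.t ∧ n * P.E.xz c * n⁻¹ = P.E.xz c := by
  obtain ⟨n, c, hn, hc, e1, e2⟩ := exists_moverX (udat1 B) P.C P.hZ P.sit P.hyp P.hq P.hypE P.h0 P.h1 P.sch P.outer
  exact ⟨pr A t n, c, hc, B2Mover.mem_TZ5 (imS P.hyp P.S) P.hypE P.h0 P.h1 P.schX hc e1 e2, e1, e2⟩

/-- **The grown groups.** -/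
theorem exists_grown : Nonempty (UFive.Grown P.E) := by
  obtain ⟨n, c, hc, hn, e1, e2⟩ := P.exists_mover
  obtain ⟨Sd, -⟩ := B2Seed5.exists_seed5 (imS P.hyp P.S) P.hypE P.h0 P.h1 hn hc e1
  exact ⟨UFive.QGrown.grown (UFive.Seed5.qGrown Sd.toSeed.wGrown Sd inf_le_left)⟩

end Top

end Cfsg.Agent.StdRank2.UFiveEnd
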