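import Cfsg.Agent.StdRank2.UFiveEnd.Chain
import Cfsg.Agent.StdRank2.UClose.Inst
import Cfsg.Agent.StdRank2.SC.FiveSplitS
import Cfsg.Agent.WreathFusion.Pair

/-!
# S1778, type `U₅(q)`, split case: the last step

`exists_pdata`: if a Sylow 2-subgroup of `L` has at most `|S₀|` elements, then the lift `Y` of `S₀ = SS false × SS true`
is a Sylow 2-subgroup of `L`, with the data of Theorem W in `X`.
-/

set_option autoImplicit false
set_option linter.unusedSectionVars false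

namespace Cfsg.Agent.StdRank2.UFiveEnd.Top

open Subgroup Cfsg.Agent.StdRank2.UFour Cfsg.Agent.StdEven.CoreQuot
open Cfsg.Agent.StdEven.Syl Cfsg.Agent.WreathFusion

universe u

variable {F : Type*} [Field F] [Finite F] [CharP F 2] {B : Bar F} {G : Type u} [Group G] [Finite G]
  {L A : Subgroup G} {t : G} (P : Top B L A t) {Gr : UFive.Grown P.E} (D : SC.Five.SplitG Gr)

/-- the lift of `S₀` -/
theorem exists_lift_S0 (Gr : UFive.QGrown P.E) : ∃ Y : Subgroup G, IsPGroup 2 Y ∧ Y ≤ NO A t ∧ Y ≤ L ∧ im A t Y = Gr.S0 ∧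
    Nat.card Y = Nat.card Gr.S0 := by
  have := P.C.normal
  have hSL : Gr.S0 ≤ im A t L := UClose.S0_le_im P.hyp P.S P.hypE P.h0 P.h1 Gr P.C.le
  have hbot : im A t (⊥ : Subgroup G) ≤ Gr.S0 := by
    intro x hx
    obtain ⟨n, hn, rfl⟩ := mem_im.1 hx
    have h1 : n = 1 := Subtype.ext (mem_bot.1 hn)
    rw [h1, map_one]
    exact one_mem _
  obtain ⟨Y, hY, hYN, -, him⟩ := P.hyp.exists_lift (Y' := Gr.S0) Gr.isPGroup_S0 (Y0 := ⊥) IsPGroup.of_bot bot_le hbot
  refine ⟨Y, hY, hYN, fun y hy => ?_, him, ?_⟩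
  · refine Cfsg.Agent.StdEven.EndLift.mem_L P.C P.hyp (hYN hy) (hSL ?_)
    rw [← him]
    exact pr_mem_im (n := ⟨y, hYN hy⟩) hy
  · rw [← him, P.hyp.card_im hY hYN]

include D in
/-- **The data of Theorem W.** -/
theorem exists_pdata {N : Subgroup G} (hN : IsSyl N L) (hc : Nat.card N ≤ Nat.card Gr.toQGrown.S0) :
    ∃ Y : Subgroup G, IsSyl Y L ∧ Y ≤ NO A t ∧ PData (im A t Y) (D.SS false) (D.SS true) (D.LL false) (D.LL true) := by
  obtain ⟨Y, hY, hYN, hYL, him, hcard⟩ := P.exists_lift_S0 Gr.toQGrown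
  exact ⟨Y, hN.of_card_le hY hYL (by omega), hYN, by rw [him]; exact D.pdata⟩

end Cfsg.Agent.StdRank2.UFiveEnd.Top
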